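import Cfsg.Agent.Lib.Helper41.Bin.Unip

/-!
# Binary coset actions of `SL₂(F)` in characteristic two: stabilisers of even order
-/

set_option autoImplicit false
set_option linter.unusedVariables false
set_option linter.unusedSimpArgs false

namespace Cfsg.Agent.Lib.Helper41.Bin

open Cfsg.Agent.Lib.Helper37.Bin Matrix

variable {F : Type*} [Field F]

local notation "SL2" => Matrix.SpecialLinearGroup (Fin 2) F

theorem sq_eq_one_of_tr2_zero (h2 : (2 : F) = 0) {k : SL2} (hk : tr2 k = 0) : k * k = 1 := by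
  have hd := det_eq k
  simp only [tr2] at hk
  apply sl2_ext <;> simp only [mul00, mul01, mul10, mul11, one00, one01, one10, one11] <;> grind

theorem tr2_zero_of_sq (h2 : (2 : F) = 0) {t : SL2} (ht : t * t = 1) : tr2 t = 0 := by
  have := tr2_mul_add t t
  rw [ht, mul_inv_cancel, tr2_one, h2, add_zero] at this
  exact mul_self_eq_zero.1 this.symm

theorem uu_mul_self (h2 : (2 : F) = 0) (b : F) : uu b * uu b = 1 := by
  rw [uu_add, ← two_mul, h2, zero_mul, uu_zero]

theorem uu_ne_one {b : F} (hb : b ≠ 0) : uu b ≠ 1 := by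
  intro h
  rw [← uu_zero] at h
  exact hb (uu_injective h)

theorem orderOf_uu (h2 : (2 : F) = 0) {b : F} (hb : b ≠ 0) : orderOf (uu b) = 2 :=
  orderOf_eq_prime (by rw [pow_two, uu_mul_self h2]) (uu_ne_one hb)

section finite

variable [Fintype F]

theorem exists_conj_uu_one (h2 : (2 : F) = 0) (t : SL2) (ht : t * t = 1) (ht1 : t ≠ 1) :
    ∃ P : SL2, t = P * uu 1 * P⁻¹ := by
  have hd := det_eq t
  have htr := tr2_zero_of_sq h2 ht
  simp only [tr2] at htr
  have key : ∀ P : SL2, t * P = P * uu 1 → ∃ P : SL2, t = P * uu 1 * P⁻¹ := by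
    intro P h
    exact ⟨P, by rw [← h]; group⟩
  by_cases hq : t 0 1 = 0
  · by_cases hr : t 1 0 = 0
    · exfalso
      apply ht1
      have h00 : t 0 0 = 1 := by
        have : (t 0 0 - 1) ^ 2 = 0 := by grind
        exact sub_eq_zero.1 (pow_eq_zero_iff two_ne_zero |>.1 this)
      apply sl2_ext <;> simp only [one00, one01, one10, one11] <;> grind
    · obtain ⟨r, hr'⟩ := isSquare_of_two_eq_zero h2 (t 1 0)⁻¹
      have hr2 : t 1 0 * (r * r) = 1 := by rw [← hr']; exact mul_inv_cancel₀ hr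
      apply key (mkS ((t 0 0 + 1) * r) r (t 1 0 * r) 0 (by grind))
      apply sl2_ext <;>
        simp only [mul00, mul01, mul10, mul11, uu, mkS00, mkS01, mkS10, mkS11] <;> grind
  · obtain ⟨r, hr'⟩ := isSquare_of_two_eq_zero h2 (t 0 1)⁻¹
    have hr2 : t 0 1 * (r * r) = 1 := by rw [← hr']; exact mul_inv_cancel₀ hq
    apply key (mkS (t 0 1 * r) 0 ((t 0 0 + 1) * r) r (by grind))
    apply sl2_ext <;>
      simp only [mul00, mul01, mul10, mul11, uu, mkS00, mkS01, mkS10, mkS11] <;> grind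

theorem invol_conj (h2 : (2 : F) = 0) (a b : SL2) (ha : orderOf a = 2) (hb : orderOf b = 2) :
    IsConj a b := by
  have h : ∀ t : SL2, orderOf t = 2 → ∃ P : SL2, t = P * uu 1 * P⁻¹ := by
    intro t ht
    apply exists_conj_uu_one h2 t
    · have := pow_orderOf_eq_one t
      rw [ht, pow_two] at this
      exact this
    · intro h1
      rw [h1, orderOf_one] at ht
      norm_num at ht
  obtain ⟨P, hP⟩ := h a ha
  obtain ⟨Q, hQ⟩ := h b hb
  rw [isConj_iff]
  refine ⟨Q * P⁻¹, ?_⟩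
  rw [hP, hQ]
  group

theorem uu_mem_of_bin (h2 : (2 : F) = 0) (K : Subgroup SL2) (hbin : IsBin' K) (h1 : uu 1 ∈ K)
    (b : F) : uu b ∈ K := by
  by_cases hb : b = 0
  · rw [hb, uu_zero]; exact K.one_mem
  by_cases hb1 : b = 1
  · rw [hb1]; exact h1
  exact invol_mem_of_bin (invol_conj h2) K hbin (orderOf_uu h2 one_ne_zero) (orderOf_uu h2 hb)
    (fun h => hb1 (uu_injective h).symm) (by rw [uu_add, uu_add, add_comm]) h1

end finite

/-- Frobenius-type stabilisers `U ⋊ C`, `C ≠ 1`, in characteristic two -/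
theorem not_bin_frob (h2 : (2 : F) = 0) (K : Subgroup SL2) (hB : ∀ k ∈ K, k 1 0 = 0)
    (hU : ∀ b, uu b ∈ K) {k₀ : SL2} (hk₀ : k₀ ∈ K) (ha1 : k₀ 0 0 ≠ 1) : ¬ IsBin' K := by
  intro hbin
  set a := k₀ 0 0 with ha
  have hd0 := det_eq k₀
  have h10 := hB _ hk₀
  have ha0 : a ≠ 0 := by
    intro h
    rw [← ha, h, h10] at hd0
    simp at hd0
  have h11 : k₀ 1 1 = a⁻¹ := by
    rw [← ha, h10] at hd0
    field_simp
    linear_combination hd0
  have memU : ∀ M : SL2, M 1 0 = 0 → M 0 0 = 1 → M ∈ K := by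
    intro M h1 h2
    obtain ⟨b, rfl⟩ := mem_Usub_iff.1 (⟨h1, h2⟩ : M ∈ Usub F)
    exact hU b
  have memK : ∀ M : SL2, M 1 0 = 0 → (M 0 0 = 1 ∨ M 0 0 = a ∨ M 0 0 = a⁻¹) → M ∈ K := by
    intro M h1 h
    rcases h with h | h | h
    · exact memU M h1 h
    · have : M = k₀ * (k₀⁻¹ * M) := by group
      rw [this]
      apply K.mul_mem hk₀ (memU _ _ _)
      · rw [mul10, inv10, inv11, h10, h1]; ring
      · rw [mul00, inv00, inv01, h1, h, h11]; field_simp; ring
    · have : M = k₀⁻¹ * (k₀ * M) := by group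
      rw [this]
      apply K.mul_mem (K.inv_mem hk₀) (memU _ _ _)
      · rw [mul10, h10, h1]; ring
      · rw [mul00, h1, h, ← ha]; field_simp; ring
  have ha1' : a + 1 ≠ 0 := by
    intro h
    apply ha1
    linear_combination h - h2
  let w : SL2 := mkS 0 1 1 0 (by linear_combination (-1 : F) * h2)
  let y3 : SL2 := mkS a 0 (a + 1) a⁻¹ (by field_simp; ring)
  let y4 : SL2 := mkS a⁻¹ 0 (a⁻¹ + 1) a (by field_simp; ring)
  let g23 : SL2 := mkS a 0 ((a + 1) ^ 2 / a) a⁻¹ (by field_simp; ring)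
  let g24 : SL2 := mkS a⁻¹ 0 ((a⁻¹ + 1) ^ 2 * a) a (by field_simp; ring)
  have f0_1 : (1 : SL2)⁻¹ * 1 * 1 ∈ K := by simp
  have f0_u : (1 : SL2)⁻¹ * uu 1 * 1 ∈ K := by simpa using hU 1
  have f1_1 : w⁻¹ * 1 * w ∈ K := by simp
  have f1_23 : w⁻¹ * g23 * w ∈ K := by
    apply memK
    · simp only [w, g23, mul00, mul01, mul10, mul11, inv00, inv01, inv10, inv11, mkS00, mkS01,
        mkS10, mkS11]; ring
    · right; right
      simp only [w, g23, mul00, mul01, mul10, mul11, inv00, inv01, inv10, inv11, mkS00, mkS01,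
        mkS10, mkS11]
      grind
  have f1_24 : w⁻¹ * g24 * w ∈ K := by
    apply memK
    · simp only [w, g24, mul00, mul01, mul10, mul11, inv00, inv01, inv10, inv11, mkS00, mkS01,
        mkS10, mkS11]; ring
    · right; left
      simp only [w, g24, mul00, mul01, mul10, mul11, inv00, inv01, inv10, inv11, mkS00, mkS01,
        mkS10, mkS11]
      grind
  have f2_u : y3⁻¹ * uu 1 * ll (a + 1) ∈ K := by
    apply memK
    · simp only [y3, uu, ll, mul00, mul01, mul10, mul11, inv00, inv01, inv10, inv11, mkS00, mkS01,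
        mkS10, mkS11]
      grind
    · left
      simp only [y3, uu, ll, mul00, mul01, mul10, mul11, inv00, inv01, inv10, inv11, mkS00, mkS01,
        mkS10, mkS11]
      field_simp
      grind
  have f2_23 : y3⁻¹ * g23 * ll (a + 1) ∈ K := by
    apply memK
    · simp only [y3, g23, ll, mul00, mul01, mul10, mul11, inv00, inv01, inv10, inv11, mkS00, mkS01,
        mkS10, mkS11]
      field_simp
      grind
    · left
      simp only [y3, g23, ll, mul00, mul01, mul10, mul11, inv00, inv01, inv10, inv11, mkS00, mkS01,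
        mkS10, mkS11]
      field_simp
      grind
  have f3_u : y4⁻¹ * uu 1 * ll (a⁻¹ + 1) ∈ K := by
    apply memK
    · simp only [y4, uu, ll, mul00, mul01, mul10, mul11, inv00, inv01, inv10, inv11, mkS00, mkS01,
        mkS10, mkS11]
      field_simp
      grind
    · left
      simp only [y4, uu, ll, mul00, mul01, mul10, mul11, inv00, inv01, inv10, inv11, mkS00, mkS01,
        mkS10, mkS11]
      field_simp
      grind
  have f3_24 : y4⁻¹ * g24 * ll (a⁻¹ + 1) ∈ K := by
    apply memK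
    · simp only [y4, g24, ll, mul00, mul01, mul10, mul11, inv00, inv01, inv10, inv11, mkS00, mkS01,
        mkS10, mkS11]
      field_simp
      grind
    · left
      simp only [y4, g24, ll, mul00, mul01, mul10, mul11, inv00, inv01, inv10, inv11, mkS00, mkS01,
        mkS10, mkS11]
      field_simp
      grind
  obtain ⟨g, hg⟩ := hbin 4 ![1, w, ll (a + 1), ll (a⁻¹ + 1)] ![1, w, y3, y4] (by norm_num) (by
    intro i j hij
    fin_cases i <;> fin_cases j
    · exact absurd rfl hij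
    · exact ⟨1, f0_1, f1_1⟩
    · exact ⟨uu 1, f0_u, f2_u⟩
    · exact ⟨uu 1, f0_u, f3_u⟩
    · exact ⟨1, f1_1, f0_1⟩
    · exact absurd rfl hij
    · exact ⟨g23, f1_23, f2_23⟩
    · exact ⟨g24, f1_24, f3_24⟩
    · exact ⟨uu 1, f2_u, f0_u⟩
    · exact ⟨g23, f2_23, f1_23⟩
    · exact absurd rfl hij
    · exact ⟨uu 1, f2_u, f3_u⟩
    · exact ⟨uu 1, f3_u, f0_u⟩
    · exact ⟨g24, f3_24, f1_24⟩
    · exact ⟨uu 1, f3_u, f2_u⟩
    · exact absurd rfl hij)
  have e0 : ((1 : SL2)⁻¹ * g * 1) 1 0 = 0 := hB _ (hg 0)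
  have e1 : (w⁻¹ * g * w) 1 0 = 0 := hB _ (hg 1)
  have e2 : (y3⁻¹ * g * ll (a + 1)) 1 0 = 0 := hB _ (hg 2)
  have e3 : (y4⁻¹ * g * ll (a⁻¹ + 1)) 1 0 = 0 := hB _ (hg 3)
  have hdg := det_eq g
  simp only [w, y3, y4, ll, mul00, mul01, mul10, mul11, inv00, inv01, inv10, inv11, mkS00, mkS01,
        mkS10, mkS11, one00, one01, one10, one11] at e0 e1 e2 e3
  have g10 : g 1 0 = 0 := by grind
  have g01 : g 0 1 = 0 := by grind
  rw [g10, g01] at e2 e3 hdg
  have e2' : g 0 0 = a * g 1 1 := by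
    have : (a + 1) * (a * g 1 1 - g 0 0) = 0 := by linear_combination e2
    rcases mul_eq_zero.1 this with h | h
    · exact absurd h ha1'
    · linear_combination -h
  have e3' : a * g 0 0 = g 1 1 := by
    have : (a + 1) * (g 1 1 - a * g 0 0) = 0 := by
      field_simp at e3
      linear_combination e3
    rcases mul_eq_zero.1 this with h | h
    · exact absurd h ha1'
    · linear_combination -h
  have g11 : g 1 1 ≠ 0 := by
    intro h
    rw [h] at hdg
    simp at hdg
  have : (a + 1) ^ 2 * g 1 1 = 0 := by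
    rw [e2'] at e3'
    linear_combination e3' + (a * g 1 1 + g 1 1) * h2
  rcases mul_eq_zero.1 this with h | h
  · exact ha1' (pow_eq_zero_iff two_ne_zero |>.1 h)
  · exact g11 h

end Cfsg.Agent.Lib.Helper41.Bin
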