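import Cfsg.Agent.Lib.Helper41.Bin.Even

/-!
# Binary coset actions of `SL₂(F)` in characteristic two: the Sylow 2-subgroups
-/

set_option autoImplicit false
set_option linter.unusedVariables false
set_option linter.unusedSimpArgs false

namespace Cfsg.Agent.Lib.Helper41.Bin

open Cfsg.Agent.Lib.Helper37.Bin Matrix

variable {F : Type*} [Field F]

local notation "SL2" => Matrix.SpecialLinearGroup (Fin 2) F

theorem conj_uu_10 (x : SL2) (b : F) : (x * uu b * x⁻¹) 1 0 = -(b * x 1 0 ^ 2) := by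
  simp only [uu, mul00, mul01, mul10, mul11, inv00, inv01, inv10, inv11, mkS00, mkS01, mkS10, mkS11]
  ring

theorem conj_uu_00 (x : SL2) (b : F) : (x * uu b * x⁻¹) 0 0 = 1 - b * x 0 0 * x 1 0 := by
  have := det_eq x
  simp only [uu, mul00, mul01, mul10, mul11, inv00, inv01, inv10, inv11, mkS00, mkS01, mkS10, mkS11]
  linear_combination this

theorem conj_mem_Usub {x : SL2} (hx : x 1 0 = 0) {h : SL2} (hh : h ∈ Usub F) :
    x * h * x⁻¹ ∈ Usub F := by
  obtain ⟨b, rfl⟩ := mem_Usub_iff.1 hh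
  refine ⟨?_, ?_⟩
  · rw [conj_uu_10, hx]; ring
  · rw [conj_uu_00, hx]; ring

theorem isBin'_Usub (h2 : (2 : F) = 0) : IsBin' (Usub F) := by
  apply isBin'_of_TI
  · intro h hh
    obtain ⟨b, rfl⟩ := mem_Usub_iff.1 hh
    exact uu_mul_self h2 b
  · intro x
    by_cases hx : x 1 0 = 0
    · left
      intro h hh
      exact conj_mem_Usub hx hh
    · right
      intro h hh hc
      obtain ⟨b, rfl⟩ := mem_Usub_iff.1 hh
      have := hc.1
      rw [conj_uu_10] at this
      have hb : b = 0 := by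
        rcases mul_eq_zero.1 (neg_eq_zero.1 this) with h | h
        · exact h
        · exact absurd (pow_eq_zero_iff two_ne_zero |>.1 h) hx
      rw [hb, uu_zero]
  · intro x y a ha b hb ha1 hb1 hcomm h hh
    apply conj_mem_Usub _ hh
    obtain ⟨α, rfl⟩ := mem_Usub_iff.1 ha
    obtain ⟨β, rfl⟩ := mem_Usub_iff.1 hb
    have hα : α ≠ 0 := by
      rintro rfl
      exact ha1 uu_zero
    have hβ : β ≠ 0 := by
      rintro rfl
      exact hb1 uu_zero
    have h1 : ((y⁻¹ * x) * uu α * (y⁻¹ * x)⁻¹) * uu β = uu β * ((y⁻¹ * x) * uu α * (y⁻¹ * x)⁻¹) := by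
      have e1 : ((y⁻¹ * x) * uu α * (y⁻¹ * x)⁻¹) * uu β =
          y⁻¹ * ((x * uu α * x⁻¹) * (y * uu β * y⁻¹)) * y := by group
      have e2 : uu β * ((y⁻¹ * x) * uu α * (y⁻¹ * x)⁻¹) =
          y⁻¹ * ((y * uu β * y⁻¹) * (x * uu α * x⁻¹)) * y := by group
      rw [e1, e2, hcomm]
    have h3 : (((y⁻¹ * x) * uu α * (y⁻¹ * x)⁻¹) * uu β) 0 0 =
        (uu β * ((y⁻¹ * x) * uu α * (y⁻¹ * x)⁻¹)) 0 0 := by rw [h1]
    rw [mul00, mul00 (uu β), conj_uu_10] at h3
    simp only [uu, mkS00, mkS01, mkS10, mkS11] at h3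
    have h4 : β * (α * (y⁻¹ * x) 1 0 ^ 2) = 0 := by linear_combination h3
    rcases mul_eq_zero.1 h4 with h | h
    · exact absurd h hβ
    · rcases mul_eq_zero.1 h with h | h
      · exact absurd h hα
      · exact pow_eq_zero_iff two_ne_zero |>.1 h

theorem tr2_pow_two_pow (h2 : (2 : F) = 0) (k : SL2) (j : ℕ) :
    tr2 (k ^ 2 ^ j) = tr2 k ^ 2 ^ j := by
  induction j with
  | zero => simp
  | succ j ih =>
    have := tr2_mul_add (k ^ 2 ^ j) (k ^ 2 ^ j)
    rw [mul_inv_cancel, tr2_one, h2, add_zero, ih, ← pow_add, ← pow_add, ← two_mul, ← pow_succ'] at this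
    exact this

variable [Fintype F]

/-- a binary action with a stabiliser containing an involution: the stabiliser has order `q` -/
theorem card_of_bin_even (h2 : (2 : F) = 0) (K : Subgroup SL2) (hK : K ≠ ⊤) (hbin : IsBin' K)
    {t : SL2} (htK : t ∈ K) (ht : t * t = 1) (ht1 : t ≠ 1) : Nat.card K = Nat.card F := by
  obtain ⟨P, hP⟩ := exists_conj_uu_one h2 t ht ht1
  set K' := cj P⁻¹ K with hK'
  have hbin' : IsBin' K' := (isBin'_cj_iff _ K).2 hbin
  have h1 : uu 1 ∈ K' := by
    rw [hK', mem_cj, inv_inv, ← hP]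
    exact htK
  have hU := uu_mem_of_bin h2 K' hbin' h1
  have hB : ∀ k ∈ K', k 1 0 = 0 := by
    intro k hk
    by_contra h
    exact cj_ne_top hK (eq_top_of_uu K' hU hk h)
  have hEq : K' = Usub F := by
    apply le_antisymm
    · intro k hk
      refine ⟨hB k hk, ?_⟩
      by_contra h
      exact not_bin_frob h2 K' hB hU hk h hbin'
    · intro k hk
      obtain ⟨b, rfl⟩ := mem_Usub_iff.1 hk
      exact hU b
  rw [← card_cj P⁻¹ K, ← hK', hEq, card_Usub]

/-- subgroups of order `q` give binary actions -/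
theorem isBin'_of_card (h2 : (2 : F) = 0) (a : ℕ) (hF : Nat.card F = 2 ^ a) (K : Subgroup SL2)
    (hK : Nat.card K = Nat.card F) : IsBin' K := by
  have hsq : ∀ k ∈ K, k * k = 1 := by
    intro k hk
    apply sq_eq_one_of_tr2_zero h2
    have h1 : k ^ 2 ^ a = 1 := by
      have := pow_card_eq_one' (G := K) (x := ⟨k, hk⟩)
      rw [hK, hF] at this
      exact congrArg Subtype.val this
    have h3 := tr2_pow_two_pow h2 k a
    rw [h1, tr2_one, h2] at h3
    exact pow_eq_zero_iff (by positivity) |>.1 h3.symm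
  have hnt : ∃ t ∈ K, t ≠ 1 := by
    by_contra hcon
    push Not at hcon
    have : K = ⊥ := (Subgroup.eq_bot_iff_forall K).2 hcon
    rw [this, Subgroup.card_bot] at hK
    have := Fintype.one_lt_card (α := F)
    rw [Nat.card_eq_fintype_card] at hK
    omega
  obtain ⟨t, htK, ht1⟩ := hnt
  obtain ⟨P, hP⟩ := exists_conj_uu_one h2 t (hsq t htK) ht1
  set K' := cj P⁻¹ K with hK'
  have h1 : uu 1 ∈ K' := by
    rw [hK', mem_cj, inv_inv, ← hP]
    exact htK
  have hsq' : ∀ k ∈ K', k * k = 1 := by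
    intro k hk
    rw [hK', mem_cj] at hk
    have := hsq _ hk
    have e : k * k = P⁻¹ * ((P⁻¹⁻¹ * k * P⁻¹) * (P⁻¹⁻¹ * k * P⁻¹)) * P⁻¹⁻¹ := by group
    rw [e, this]
    group
  have hle : K' ≤ Usub F := by
    intro k hk
    have hc : k * uu 1 = uu 1 * k := by
      have e1 := hsq' _ (K'.mul_mem hk h1)
      have e2 := hsq' _ hk
      have e3 := hsq' _ h1
      calc k * uu 1 = (uu 1 * uu 1) * (k * uu 1) * (k * k) := by rw [e2, e3]; group
        _ = uu 1 * ((uu 1 * k) * (uu 1 * k)) * k := by group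
        _ = uu 1 * k := by
          have e4 := hsq' _ (K'.mul_mem h1 hk)
          rw [e4]; group
    have c00 := congrArg (fun M : SL2 => M 0 0) hc
    have c01 := congrArg (fun M : SL2 => M 0 1) hc
    simp only [mul00, mul01, uu, mkS00, mkS01, mkS10, mkS11] at c00 c01
    have k10 : k 1 0 = 0 := by linear_combination -c00
    have hd := det_eq k
    refine ⟨k10, ?_⟩
    have : (k 0 0 - 1) ^ 2 = 0 := by
      rw [k10] at hd
      have k11 : k 1 1 = k 0 0 := by linear_combination -c01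
      rw [k11] at hd
      linear_combination hd + (1 - k 0 0) * h2
    exact sub_eq_zero.1 (pow_eq_zero_iff two_ne_zero |>.1 this)
  have hEq : K' = Usub F := by
    apply Subgroup.eq_of_le_of_card_ge hle
    rw [card_Usub, hK', card_cj, hK]
  rw [← isBin'_cj_iff P⁻¹ K, ← hK', hEq]
  exact isBin'_Usub h2

end Cfsg.Agent.Lib.Helper41.Bin
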