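import Cfsg.Agent.Lib.Helper37.Suzuki.BinB
import Cfsg.Agent.Lib.Helper37.Suzuki.BinC

/-!
# Binary coset actions: further general lemmas
-/

set_option autoImplicit false

namespace Cfsg.Agent.Lib.Helper41.Bin

open Cfsg.Agent.Lib.Helper37.Bin

variable {G : Type*} [Group G]

theorem isBin'_comap_iff {S : Type*} [Group S] (π : S →* G) (hπ : Function.Surjective π)
    (H : Subgroup G) : IsBin' (H.comap π) ↔ IsBin' H := by
  constructor
  · intro h n x y hn hp
    choose x' hx' using fun i => hπ (x i)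
    choose y' hy' using fun i => hπ (y i)
    obtain ⟨g, hg⟩ := h n x' y' hn (by
      intro i j hij
      obtain ⟨g, h1, h2⟩ := hp i j hij
      obtain ⟨g', rfl⟩ := hπ g
      refine ⟨g', ?_, ?_⟩
      · rw [Subgroup.mem_comap]; simpa [hx', hy'] using h1
      · rw [Subgroup.mem_comap]; simpa [hx', hy'] using h2)
    refine ⟨π g, fun i => ?_⟩
    have := hg i
    rw [Subgroup.mem_comap] at this
    simpa [hx', hy'] using this
  · intro h n x y hn hp
    obtain ⟨g, hg⟩ := h n (fun i => π (x i)) (fun i => π (y i)) hn (by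
      intro i j hij
      obtain ⟨g, h1, h2⟩ := hp i j hij
      rw [Subgroup.mem_comap] at h1 h2
      exact ⟨π g, by simpa using h1, by simpa using h2⟩)
    obtain ⟨g', rfl⟩ := hπ g
    refine ⟨g', fun i => ?_⟩
    rw [Subgroup.mem_comap]
    simpa using hg i

/-- conjugate of a subgroup -/
def cj (x : G) (H : Subgroup G) : Subgroup G := H.map (MulAut.conj x).toMonoidHom

theorem mem_cj {x g : G} {H : Subgroup G} : g ∈ cj x H ↔ x⁻¹ * g * x ∈ H := by
  rw [cj, Subgroup.mem_map_equiv]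
  simp [MulAut.conj_symm_apply]

theorem isBin'_cj_iff (x : G) (H : Subgroup G) : IsBin' (cj x H) ↔ IsBin' H :=
  isBin'_map_iff _ H

theorem card_cj (x : G) (H : Subgroup G) : Nat.card (cj x H) = Nat.card H :=
  Subgroup.card_map_of_injective (MulAut.conj x).injective

theorem cj_ne_top {x : G} {H : Subgroup G} (h : H ≠ ⊤) : cj x H ≠ ⊤ := by
  intro h'
  apply h
  rw [eq_top_iff]
  intro g _
  have : x * g * x⁻¹ ∈ cj x H := by rw [h']; trivial
  rw [mem_cj] at this
  have e : x⁻¹ * (x * g * x⁻¹) * x = g := by group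
  rwa [e] at this

theorem invol_mem_of_bin [Finite G]
    (hconj : ∀ a b : G, orderOf a = 2 → orderOf b = 2 → IsConj a b)
    (H : Subgroup G) (hbin : IsBin' H) {t s : G} (ht : orderOf t = 2) (hs : orderOf s = 2)
    (hts : t ≠ s) (hc : t * s = s * t) (htH : t ∈ H) : s ∈ H := by
  have hB := (isBin_iff H).2 hbin
  have hN : ∀ i : G, orderOf i = 2 →
      (MulAction.fixedBy (G ⧸ H) i).ncard = (MulAction.fixedBy (G ⧸ H) t).ncard := by
    intro i hi
    obtain ⟨x, hx⟩ := isConj_iff.1 (hconj t i ht hi)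
    rw [← hx, ← MulAction.smul_fixedBy, Set.ncard_smul_set]
  have htt : t * t = 1 := by rw [← pow_two, ← ht, pow_orderOf_eq_one]
  have hss : s * s = 1 := by rw [← pow_two, ← hs, pow_orderOf_eq_one]
  have hts2 : orderOf (t * s) = 2 := by
    apply orderOf_eq_prime
    · rw [pow_two]
      calc t * s * (t * s) = t * (s * t) * s := by group
        _ = t * (t * s) * s := by rw [hc]
        _ = (t * t) * (s * s) := by group
        _ = 1 := by rw [htt, hss, one_mul]
    · intro h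
      apply hts
      have : t = s⁻¹ := eq_inv_of_mul_eq_one_left h
      rw [this]
      exact inv_eq_of_mul_eq_one_left hss
  have key := fixedBy_eq_of_bin (G := G) (Ω := G ⧸ H) hB _ hN ht hs hts2 hc
  have h1 : ((1 : G) : G ⧸ H) ∈ MulAction.fixedBy (G ⧸ H) t := by
    rw [MulAction.mem_fixedBy, smul_mk_eq]
    simpa using htH
  rw [key, MulAction.mem_fixedBy, smul_mk_eq] at h1
  simpa using h1

/-- A trivial-intersection subgroup in which no non-trivial element is a product of two non-trivial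
elements of other conjugates gives a binary action. -/
theorem isBin'_of_TI_T (H : Subgroup G)
    (ha : ∀ x : G, (∀ h ∈ H, x * h * x⁻¹ ∈ H) ∨ (∀ h ∈ H, x * h * x⁻¹ ∈ H → h = 1))
    (hT : ∀ x y : G, ∀ z ∈ H, ∀ a ∈ H, ∀ b ∈ H, z ≠ 1 → a ≠ 1 → b ≠ 1 →
      z = (x * b * x⁻¹) * (y * a * y⁻¹) → ∀ h ∈ H, x⁻¹ * h * x⁻¹⁻¹ ∈ H) : IsBin' H := by
  classical
  intro n x y hn hp
  let i0 : Fin n := ⟨0, by omega⟩
  let i1 : Fin n := ⟨1, by omega⟩
  have h01 : i0 ≠ i1 := by
    intro h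
    have := congrArg Fin.val h
    simp [i0, i1] at this
  have hγ : ∀ i, ∃ g, (y i0)⁻¹ * g * x i0 ∈ H ∧ (y i)⁻¹ * g * x i ∈ H := by
    intro i
    by_cases hi : i = i0
    · obtain ⟨g, hg0, -⟩ := hp i0 i1 h01
      exact ⟨g, hg0, by rw [hi]; exact hg0⟩
    · exact hp i0 i (Ne.symm hi)
  choose γ hγ0 hγi using hγ
  have K1 : ∀ i j, (x i0)⁻¹ * (γ i)⁻¹ * γ j * x i0 ∈ H := by
    intro i j
    have : (x i0)⁻¹ * (γ i)⁻¹ * γ j * x i0 = ((y i0)⁻¹ * γ i * x i0)⁻¹ * ((y i0)⁻¹ * γ j * x i0) := by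
      group
    rw [this]
    exact H.mul_mem (H.inv_mem (hγ0 i)) (hγ0 j)
  have K2 : ∀ i, (∀ h ∈ H, ((x i)⁻¹ * x i0) * h * ((x i)⁻¹ * x i0)⁻¹ ∈ H) →
      ∀ j, (y i)⁻¹ * γ j * x i ∈ H := by
    intro i hin j
    have : (y i)⁻¹ * γ j * x i = ((y i)⁻¹ * γ i * x i) *
        (((x i)⁻¹ * x i0) * ((x i0)⁻¹ * (γ i)⁻¹ * γ j * x i0) * ((x i)⁻¹ * x i0)⁻¹) := by group
    rw [this]
    exact H.mul_mem (hγi i) (hin _ (K1 i j))
  by_cases hall : ∀ i, ∀ h ∈ H, ((x i)⁻¹ * x i0) * h * ((x i)⁻¹ * x i0)⁻¹ ∈ H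
  · exact ⟨γ i0, fun i => K2 i (hall i) i0⟩
  · push Not at hall
    obtain ⟨s, hs⟩ := hall
    have TIs : ∀ h ∈ H, ((x s)⁻¹ * x i0) * h * ((x s)⁻¹ * x i0)⁻¹ ∈ H → h = 1 := by
      rcases ha ((x s)⁻¹ * x i0) with h | h
      · obtain ⟨h', h1, h2⟩ := hs
        exact absurd (h h' h1) h2
      · exact h
    refine ⟨γ s, fun i => ?_⟩
    by_cases hin : ∀ h ∈ H, ((x i)⁻¹ * x i0) * h * ((x i)⁻¹ * x i0)⁻¹ ∈ H
    · exact K2 i hin s
    · have TIi : ∀ h ∈ H, ((x i)⁻¹ * x i0) * h * ((x i)⁻¹ * x i0)⁻¹ ∈ H → h = 1 := by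
        rcases ha ((x i)⁻¹ * x i0) with h | h
        · exact absurd h hin
        · exact h
      by_cases his : i = s
      · rw [his]; exact hγi s
      · obtain ⟨g', hg1, hg2⟩ := hp s i (Ne.symm his)
        set a₀ := (x s)⁻¹ * (γ s)⁻¹ * g' * x s with ha₀
        set b₀ := (x i)⁻¹ * (γ i)⁻¹ * g' * x i with hb₀
        set z₀ := (x i0)⁻¹ * (γ i)⁻¹ * γ s * x i0 with hz₀
        have ha₀H : a₀ ∈ H := by
          have : a₀ = ((y s)⁻¹ * γ s * x s)⁻¹ * ((y s)⁻¹ * g' * x s) := by rw [ha₀]; group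
          rw [this]
          exact H.mul_mem (H.inv_mem (hγi s)) hg1
        have hb₀H : b₀ ∈ H := by
          have : b₀ = ((y i)⁻¹ * γ i * x i)⁻¹ * ((y i)⁻¹ * g' * x i) := by rw [hb₀]; group
          rw [this]
          exact H.mul_mem (H.inv_mem (hγi i)) hg2
        have hz₀H : z₀ ∈ H := K1 i s
        have hz1 : z₀ = 1 := by
          by_cases ha1 : a₀ = 1
          · apply TIi z₀ hz₀H
            have : (x i)⁻¹ * x i0 * z₀ * ((x i)⁻¹ * x i0)⁻¹ =
                b₀ * ((x i)⁻¹ * x s * a₀⁻¹ * (x s)⁻¹ * x i) := by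
              rw [hz₀, hb₀, ha₀]; group
            rw [this, ha1]
            have : b₀ * ((x i)⁻¹ * x s * 1⁻¹ * (x s)⁻¹ * x i) = b₀ := by group
            rw [this]
            exact hb₀H
          · by_cases hb1 : b₀ = 1
            · apply TIs z₀ hz₀H
              have : (x s)⁻¹ * x i0 * z₀ * ((x s)⁻¹ * x i0)⁻¹ =
                  ((x s)⁻¹ * x i * b₀ * (x i)⁻¹ * x s) * a₀⁻¹ := by
                rw [hz₀, hb₀, ha₀]; group
              rw [this, hb1]
              have : (x s)⁻¹ * x i * 1 * (x i)⁻¹ * x s * a₀⁻¹ = a₀⁻¹ := by group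
              rw [this]
              exact H.inv_mem ha₀H
            · by_contra hz1
              apply hin
              have hz : z₀ = (((x i0)⁻¹ * x i) * b₀ * ((x i0)⁻¹ * x i)⁻¹) *
                  (((x i0)⁻¹ * x s) * a₀⁻¹ * ((x i0)⁻¹ * x s)⁻¹) := by
                rw [hz₀, hb₀, ha₀]; group
              have := hT _ _ z₀ hz₀H a₀⁻¹ (H.inv_mem ha₀H) b₀ hb₀H hz1 (by simpa using ha1) hb1 hz
              intro h hh
              have e : ((x i0)⁻¹ * x i)⁻¹ = (x i)⁻¹ * x i0 := by group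
              have h2 := this h hh
              rwa [e] at h2
        have hγeq : γ i = γ s := by
          have : γ s = γ i * (x i0 * z₀ * (x i0)⁻¹) := by rw [hz₀]; group
          rw [this, hz1]; group
        rw [← hγeq]
        exact hγi i

end Cfsg.Agent.Lib.Helper41.Bin
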