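import Cfsg.Agent.Lib.Helper41.Bin.Three
import Cfsg.Agent.Lib.Helper41.Dickson.Proper
import Cfsg.Agent.Lib.Helper41.Dickson.Packages
import Cfsg.Agent.Lib.Helper41.Dickson.TraceAlg

/-!
# Binary coset actions: the interface between `SL₂(F)` and `PSL₂(F)`
-/

set_option autoImplicit false
set_option linter.unusedVariables false
set_option linter.unusedSimpArgs false
set_option linter.style.haveILetI false

namespace Cfsg.Agent.Lib.Helper41.Bin

open Cfsg.Agent.Lib.Helper37.Bin Cfsg.Agent.Lib.Helper41.Dickson Matrix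

variable {F : Type*} [Field F]

local notation "SL2" => Matrix.SpecialLinearGroup (Fin 2) F
local notation "PSL2" => Matrix.ProjectiveSpecialLinearGroup (Fin 2) F

/-- the projection -/
def pr (F : Type*) [Field F] : Matrix.SpecialLinearGroup (Fin 2) F →*
    Matrix.ProjectiveSpecialLinearGroup (Fin 2) F := QuotientGroup.mk' _

theorem pr_surj : Function.Surjective (pr F) := QuotientGroup.mk'_surjective _

theorem pr_eq_iff (X Y : SL2) : pr F X = pr F Y ↔ X = Y ∨ X = negOne * Y := by
  have := psl2_mk_eq_iff Y X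
  constructor
  · intro h
    rcases this.1 h.symm with h | h
    · left
      exact Subtype.ext h
    · right
      have e : ∀ i j, X i j = -Y i j := fun i j => congrFun (congrFun h i) j
      apply sl2_ext <;> simp only [mul00, mul01, mul10, mul11, negOne, mkS00, mkS01, mkS10, mkS11, e] <;>
        ring
  · rintro (h | h)
    · rw [h]
    · symm
      apply this.2
      right
      ext i j
      rw [h]
      fin_cases i <;> fin_cases j
      · show (negOne * Y : SL2) 0 0 = - Y 0 0
        simp only [mul00, negOne, mkS00, mkS01]; ring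
      · show (negOne * Y : SL2) 0 1 = - Y 0 1
        simp only [mul01, negOne, mkS00, mkS01]; ring
      · show (negOne * Y : SL2) 1 0 = - Y 1 0
        simp only [mul10, negOne, mkS10, mkS11]; ring
      · show (negOne * Y : SL2) 1 1 = - Y 1 1
        simp only [mul11, negOne, mkS10, mkS11]; ring

theorem pr_eq_one_iff (X : SL2) : pr F X = 1 ↔ X = 1 ∨ X = negOne := by
  have := pr_eq_iff X 1
  rwa [map_one, mul_one] at this

theorem pr_negOne : pr F negOne = 1 := (pr_eq_one_iff _).2 (Or.inr rfl)

theorem tr2_mul_comm (X Y : SL2) : tr2 (X * Y) = tr2 (Y * X) := by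
  simp only [tr2, mul00, mul11]; ring

theorem tr2_negOne_mul (X : SL2) : tr2 (negOne * X) = -tr2 X := by
  simp only [tr2, mul00, mul11, negOne, mkS00, mkS01, mkS10, mkS11]; ring

theorem tr2_zero_of_invol (h2 : (2 : F) ≠ 0) (X : SL2) (h : orderOf (pr F X) = 2) : tr2 X = 0 := by
  have h1 : pr F (X * X) = 1 := by
    have := pow_orderOf_eq_one (pr F X)
    rw [h, pow_two] at this
    rw [map_mul]; exact this
  have hne : pr F X ≠ 1 := by
    intro h'
    rw [h', orderOf_one] at h
    norm_num at h
  rw [Ne, pr_eq_one_iff, not_or] at hne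
  have hd := det_eq X
  rcases (pr_eq_one_iff _).1 h1 with h3 | h3
  · exfalso
    have e00 : (X * X) 0 0 = (1 : SL2) 0 0 := by rw [h3]
    have e01 : (X * X) 0 1 = (1 : SL2) 0 1 := by rw [h3]
    have e10 : (X * X) 1 0 = (1 : SL2) 1 0 := by rw [h3]
    have e11 : (X * X) 1 1 = (1 : SL2) 1 1 := by rw [h3]
    simp only [mul00, mul01, mul10, mul11, one00, one01, one10, one11] at e00 e01 e10 e11
    have hτ : X 0 0 + X 1 1 ≠ 0 := by
      intro hτ
      apply h2
      grind
    have x01 : X 0 1 = 0 := by
      have : X 0 1 * (X 0 0 + X 1 1) = 0 := by linear_combination e01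
      exact (mul_eq_zero.1 this).resolve_right hτ
    have x10 : X 1 0 = 0 := by
      have : X 1 0 * (X 0 0 + X 1 1) = 0 := by linear_combination e10
      exact (mul_eq_zero.1 this).resolve_right hτ
    rw [x01, x10] at e00 e11 hd
    have h5 : (X 0 0 - 1) * (X 0 0 + 1) = 0 := by linear_combination e00
    rcases mul_eq_zero.1 h5 with h6 | h6
    · apply hne.1
      apply sl2_ext <;> simp only [one00, one01, one10, one11] <;> grind
    · apply hne.2
      apply sl2_ext <;> simp only [negOne, mkS00, mkS01, mkS10, mkS11] <;> grind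
  · have e00 : (X * X) 0 0 = (negOne : SL2) 0 0 := by rw [h3]
    have e01 : (X * X) 0 1 = (negOne : SL2) 0 1 := by rw [h3]
    have e10 : (X * X) 1 0 = (negOne : SL2) 1 0 := by rw [h3]
    have e11 : (X * X) 1 1 = (negOne : SL2) 1 1 := by rw [h3]
    simp only [mul00, mul01, mul10, mul11, negOne, mkS00, mkS01, mkS10, mkS11] at e00 e01 e10 e11
    simp only [tr2]
    by_contra hτ
    have x00 : X 0 0 = 0 := by
      have : X 0 0 * (X 0 0 + X 1 1) = 0 := by linear_combination e00 + hd
      exact (mul_eq_zero.1 this).resolve_right hτ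
    have x01 : X 0 1 = 0 := by
      have : X 0 1 * (X 0 0 + X 1 1) = 0 := by linear_combination e01
      exact (mul_eq_zero.1 this).resolve_right hτ
    rw [x00, x01] at hd
    simp at hd

theorem sq_of_tr2_zero {X : SL2} (h : tr2 X = 0) : X * X = negOne := by
  have hd := det_eq X
  simp only [tr2] at h
  apply sl2_ext <;> simp only [mul00, mul01, mul10, mul11, negOne, mkS00, mkS01, mkS10, mkS11] <;>
    grind

theorem orderOf_pr_of_tr2_zero (h2 : (2 : F) ≠ 0) {X : SL2} (h : tr2 X = 0) :
    orderOf (pr F X) = 2 := by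
  apply orderOf_eq_prime
  · rw [pow_two, ← map_mul, sq_of_tr2_zero h, pr_negOne]
  · rw [Ne, pr_eq_one_iff, not_or]
    constructor
    · rintro rfl
      rw [tr2_one] at h
      exact h2 h
    · rintro rfl
      simp only [tr2, negOne, mkS00, mkS11] at h
      apply h2
      linear_combination -h

theorem comap_abelian [Finite F] (H : Subgroup PSL2) (hab : ∀ a ∈ H, ∀ b ∈ H, a * b = b * a)
    (hodd : Odd (Nat.card H)) : ∀ a ∈ H.comap (pr F), ∀ b ∈ H.comap (pr F), a * b = b * a := by
  intro X hX Y hY
  rw [Subgroup.mem_comap] at hX hY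
  have h1 : pr F (X * Y) = pr F (Y * X) := by rw [map_mul, map_mul, hab _ hX _ hY]
  rcases (pr_eq_iff _ _).1 h1 with h | h
  · exact h
  · by_cases h2 : (2 : F) = 0
    · have : (negOne : SL2) = 1 := by
        apply sl2_ext <;> simp only [negOne, mkS00, mkS01, mkS10, mkS11, one00, one01, one10, one11] <;>
          grind
      rw [this, one_mul] at h
      exact h
    · exfalso
      have h3 : tr2 (X * Y) = 0 := by
        have := congrArg tr2 h
        rw [tr2_negOne_mul, ← tr2_mul_comm X Y] at this
        have h4 : 2 * tr2 (X * Y) = 0 := by linear_combination this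
        exact (mul_eq_zero.1 h4).resolve_left h2
      have h4 := orderOf_pr_of_tr2_zero h2 h3
      have h5 : pr F (X * Y) ∈ H := by rw [map_mul]; exact H.mul_mem hX hY
      have h6 : orderOf (pr F (X * Y)) ∣ Nat.card H := by
        have := orderOf_dvd_natCard (⟨_, h5⟩ : H)
        rwa [← Subgroup.orderOf_coe] at this
      rw [h4] at h6
      exact (Nat.not_even_iff_odd.2 hodd) (even_iff_two_dvd.2 h6)

variable [Fintype F]

theorem invol_conj_odd (h2 : (2 : F) ≠ 0) (a b : PSL2) (ha : orderOf a = 2) (hb : orderOf b = 2) :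
    IsConj a b := by
  obtain ⟨A, rfl⟩ := pr_surj a
  obtain ⟨B, rfl⟩ := pr_surj b
  have hA := tr2_zero_of_invol h2 A ha
  have hB := tr2_zero_of_invol h2 B hb
  obtain ⟨x, hx⟩ := isConj_of_tr2 (g := A) (h := B) (by rw [hA, hB]) (by
    rw [hA]
    intro h
    apply h2
    have : (2 : F) * 2 = 0 := by linear_combination -h
    exact mul_self_eq_zero.1 this)
  rw [isConj_iff]
  exact ⟨pr F x, by rw [hx]; simp⟩

theorem exists_conj_upper (p : ℕ) [Fact p.Prime] [CharP F p] (P : Sylow p PSL2) :
    ∃ x : SL2, ∀ g : SL2, pr F g ∈ Subgroup.normalizer ((P : Subgroup PSL2) : Set PSL2) →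
      (x⁻¹ * g * x) 1 0 = 0 := by
  classical
  letI := pslAct F (AlgebraicClosure F)
  obtain ⟨y, ⟨a, rfl⟩, -, hN, -⟩ := borel_geom (F := F) (L := AlgebraicClosure F) p P
  obtain ⟨x, rfl⟩ := pr_surj a
  refine ⟨x, fun g hg => ?_⟩
  rw [hN, MulAction.mem_stabilizer_iff] at hg
  by_contra h
  have h1 := mk_smul_infty_of_ne (L := AlgebraicClosure F) (x⁻¹ * g * x) h
  have h3 : (QuotientGroup.mk (x⁻¹ * g * x) : PSL2) = (pr F x)⁻¹ * pr F g * pr F x := by
    simp [pr]
  simp only [] at hg
  rw [h3, mul_smul, mul_smul, hg, inv_smul_smul] at h1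
  exact OnePoint.infty_ne_coe _ h1

end Cfsg.Agent.Lib.Helper41.Bin
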