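import Cfsg.Agent.Lib.Helper41.Bin.Gen

/-!
# Binary coset actions: matrix lemmas in `SL₂(F)`
-/

set_option autoImplicit false
set_option linter.unusedVariables false

namespace Cfsg.Agent.Lib.Helper41.Bin

open Cfsg.Agent.Lib.Helper37.Bin Matrix Polynomial

variable {F : Type*} [Field F]

local notation "SL2" => Matrix.SpecialLinearGroup (Fin 2) F

theorem det_eq (A : SL2) : A 0 0 * A 1 1 - A 0 1 * A 1 0 = 1 := by
  have := A.det_coe
  rw [Matrix.det_fin_two] at this
  exact this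

theorem mul00 (A B : SL2) : (A * B) 0 0 = A 0 0 * B 0 0 + A 0 1 * B 1 0 := by
  simp [Matrix.SpecialLinearGroup.coe_mul, Matrix.mul_apply, Fin.sum_univ_two]

theorem mul01 (A B : SL2) : (A * B) 0 1 = A 0 0 * B 0 1 + A 0 1 * B 1 1 := by
  simp [Matrix.SpecialLinearGroup.coe_mul, Matrix.mul_apply, Fin.sum_univ_two]

theorem mul10 (A B : SL2) : (A * B) 1 0 = A 1 0 * B 0 0 + A 1 1 * B 1 0 := by
  simp [Matrix.SpecialLinearGroup.coe_mul, Matrix.mul_apply, Fin.sum_univ_two]

theorem mul11 (A B : SL2) : (A * B) 1 1 = A 1 0 * B 0 1 + A 1 1 * B 1 1 := by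
  simp [Matrix.SpecialLinearGroup.coe_mul, Matrix.mul_apply, Fin.sum_univ_two]

theorem inv00 (A : SL2) : A⁻¹ 0 0 = A 1 1 := by
  simp [Matrix.SpecialLinearGroup.coe_inv, Matrix.adjugate_fin_two]

theorem inv01 (A : SL2) : A⁻¹ 0 1 = -A 0 1 := by
  simp [Matrix.SpecialLinearGroup.coe_inv, Matrix.adjugate_fin_two]

theorem inv10 (A : SL2) : A⁻¹ 1 0 = -A 1 0 := by
  simp [Matrix.SpecialLinearGroup.coe_inv, Matrix.adjugate_fin_two]

theorem inv11 (A : SL2) : A⁻¹ 1 1 = A 0 0 := by
  simp [Matrix.SpecialLinearGroup.coe_inv, Matrix.adjugate_fin_two]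

theorem one00 : (1 : SL2) 0 0 = 1 := by simp
theorem one01 : (1 : SL2) 0 1 = 0 := by simp
theorem one10 : (1 : SL2) 1 0 = 0 := by simp
theorem one11 : (1 : SL2) 1 1 = 1 := by simp

theorem sl2_ext {A B : SL2} (h00 : A 0 0 = B 0 0) (h01 : A 0 1 = B 0 1) (h10 : A 1 0 = B 1 0)
    (h11 : A 1 1 = B 1 1) : A = B := by
  ext i j
  fin_cases i <;> fin_cases j <;> assumption

/-- the matrix with given entries -/
def mkS (a b c d : F) (h : a * d - b * c = 1) : SL2 :=
  ⟨!![a, b; c, d], by rw [Matrix.det_fin_two_of]; exact h⟩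

theorem mkS00 (a b c d : F) (h : a * d - b * c = 1) : mkS a b c d h 0 0 = a := rfl
theorem mkS01 (a b c d : F) (h : a * d - b * c = 1) : mkS a b c d h 0 1 = b := rfl
theorem mkS10 (a b c d : F) (h : a * d - b * c = 1) : mkS a b c d h 1 0 = c := rfl
theorem mkS11 (a b c d : F) (h : a * d - b * c = 1) : mkS a b c d h 1 1 = d := rfl

/-- the trace -/
def tr2 (A : SL2) : F := A 0 0 + A 1 1

/-- scalar matrices -/
def IsScal (s : SL2) : Prop := s 0 1 = 0 ∧ s 1 0 = 0 ∧ s 0 0 = s 1 1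

theorem IsScal.comm {s : SL2} (hs : IsScal s) (X : SL2) : s * X = X * s := by
  obtain ⟨h1, h2, h3⟩ := hs
  apply sl2_ext <;> simp only [mul00, mul01, mul10, mul11, h1, h2, h3] <;> ring

theorem comm_of_comm (s A B : SL2) (hs : ¬ IsScal s) (hA : A * s = s * A) (hB : B * s = s * B) :
    A * B = B * A := by
  have a00 := congrArg (fun M : SL2 => M 0 0) hA
  have a01 := congrArg (fun M : SL2 => M 0 1) hA
  have a10 := congrArg (fun M : SL2 => M 1 0) hA
  have b00 := congrArg (fun M : SL2 => M 0 0) hB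
  have b01 := congrArg (fun M : SL2 => M 0 1) hB
  have b10 := congrArg (fun M : SL2 => M 1 0) hB
  simp only [mul00, mul01, mul10, mul11] at a00 a01 a10 b00 b01 b10
  have hs' : s 0 1 ≠ 0 ∨ s 1 0 ≠ 0 ∨ s 0 0 - s 1 1 ≠ 0 := by
    by_contra hcon
    push Not at hcon
    exact hs ⟨hcon.1, hcon.2.1, sub_eq_zero.1 hcon.2.2⟩
  rcases hs' with h | h | h
  · apply sl2_ext <;> simp only [mul00, mul01, mul10, mul11] <;> grind
  · apply sl2_ext <;> simp only [mul00, mul01, mul10, mul11] <;> grind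
  · apply sl2_ext <;> simp only [mul00, mul01, mul10, mul11] <;> grind

theorem tr2_mul_add (X Y : SL2) : tr2 (X * Y) + tr2 (X * Y⁻¹) = tr2 X * tr2 Y := by
  simp only [tr2, mul00, mul11, inv00, inv01, inv10, inv11]
  ring

theorem tr2_one : tr2 (1 : SL2) = 2 := by
  simp only [tr2, one00, one11]; norm_num

theorem tr2_conj (X P : SL2) : tr2 (P * X * P⁻¹) = tr2 X := by
  have := det_eq P
  simp only [tr2, mul00, mul01, mul10, mul11, inv00, inv01, inv10, inv11]
  linear_combination (X 0 0 + X 1 1) * this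

theorem tr2_inv (X : SL2) : tr2 X⁻¹ = tr2 X := by
  simp only [tr2, inv00, inv11]; ring

theorem fricke {B C : SL2} {τ : F} (hc : B * C = C * B) (hB : tr2 B = τ) (hC : tr2 C = τ)
    (hBC : tr2 (B * C) = τ) : τ = 2 ∨ τ = -1 := by
  have h1 := tr2_mul_add B C
  have h2 := tr2_mul_add B B
  have h3 := tr2_mul_add C C
  have h4 := tr2_mul_add (B * C) (B * C⁻¹)
  have e1 : B * C * (B * C⁻¹) = B * B := by
    calc B * C * (B * C⁻¹) = B * (C * B) * C⁻¹ := by group
      _ = B * (B * C) * C⁻¹ := by rw [hc]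
      _ = B * B := by group
  have e2 : B * C * (B * C⁻¹)⁻¹ = C * C := by
    calc B * C * (B * C⁻¹)⁻¹ = (B * C) * C * B⁻¹ := by group
      _ = (C * B) * C * B⁻¹ := by rw [hc]
      _ = C * (B * C) * B⁻¹ := by group
      _ = C * (C * B) * B⁻¹ := by rw [hc]
      _ = C * C := by group
  rw [e1, e2] at h4
  rw [mul_inv_cancel, tr2_one] at h2 h3
  rw [hB, hC, hBC] at h1
  rw [hB] at h2
  rw [hC] at h3
  rw [hBC] at h4
  have h5 : (τ - 2) ^ 2 * (τ + 1) = 0 := by
    have : tr2 (B * C⁻¹) = τ * τ - τ := by linear_combination h1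
    rw [this] at h4
    linear_combination (-1 : F) * h4 + h2 + h3
  rcases mul_eq_zero.1 h5 with h | h
  · left
    exact sub_eq_zero.1 (pow_eq_zero_iff (two_ne_zero) |>.1 h)
  · right
    linear_combination h

section finite

variable [Fintype F]

theorem isSquare_of_two_eq_zero (h2 : (2 : F) = 0) (a : F) : IsSquare a :=
  FiniteField.isSquare_of_char_two
    (CharP.ringChar_of_prime_eq_zero Nat.prime_two (by exact_mod_cast h2)) a

theorem card_mod_two_of_two_ne_zero (h2 : (2 : F) ≠ 0) : Fintype.card F % 2 = 1 := by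
  apply FiniteField.odd_card_of_char_ne_two
  intro h
  apply h2
  have := ringChar.Nat.cast_ringChar (R := F)
  rw [h] at this
  exact_mod_cast this

theorem exists_quad (α β γ : F) (hd : β ^ 2 - 4 * α * γ ≠ 0) :
    ∃ x y : F, α * x ^ 2 + β * x * y + γ * y ^ 2 = 1 := by
  by_cases hα : α = 0
  · have hβ : β ≠ 0 := by
      rintro rfl
      apply hd
      rw [hα]; ring
    refine ⟨(1 - γ) / β, 1, ?_⟩
    rw [hα]
    field_simp
    ring
  by_cases h2 : (2 : F) = 0
  · obtain ⟨r, hr⟩ := isSquare_of_two_eq_zero h2 α⁻¹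
    refine ⟨r, 0, ?_⟩
    have : α * (r * r) = 1 := by rw [← hr]; exact mul_inv_cancel₀ hα
    linear_combination this
  · have h4 : (4 : F) ≠ 0 := by
      have : (4 : F) = 2 * 2 := by norm_num
      rw [this]; exact mul_ne_zero h2 h2
    set δ := γ - β ^ 2 / (4 * α) with hδ
    have hδ0 : δ ≠ 0 := by
      intro h
      apply hd
      have : δ * (4 * α) = 4 * α * γ - β ^ 2 := by
        rw [hδ]; field_simp
      rw [h, zero_mul] at this
      linear_combination this
    obtain ⟨a, b, hab⟩ := FiniteField.exists_root_sum_quadratic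
      (f := C α * X ^ 2 + C 0 * X + C (-1)) (g := C δ * X ^ 2 + C 0 * X + C 0)
      (degree_quadratic hα) (degree_quadratic hδ0) (card_mod_two_of_two_ne_zero h2)
    simp only [eval_add, eval_mul, eval_C, eval_pow, eval_X] at hab
    refine ⟨a - β * b / (2 * α), b, ?_⟩
    have e : δ * (4 * α) = 4 * α * γ - β ^ 2 := by
      rw [hδ]; field_simp
    field_simp
    grind

end finite

end Cfsg.Agent.Lib.Helper41.Bin
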