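import Cfsg.Agent.Lib.Helper41.Bin.Even2

/-!
# Binary coset actions of `SL₂(F)` in characteristic two: stabilisers of odd order
-/

set_option autoImplicit false
set_option linter.unusedVariables false
set_option linter.unusedSimpArgs false

namespace Cfsg.Agent.Lib.Helper41.Bin

open Cfsg.Agent.Lib.Helper37.Bin Matrix

variable {F : Type*} [Field F]

local notation "SL2" => Matrix.SpecialLinearGroup (Fin 2) F

theorem cube_of_tr2_one (h2 : (2 : F) = 0) {k : SL2} (hk : tr2 k = 1) : k * k * k = 1 := by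
  have hd := det_eq k
  simp only [tr2] at hk
  apply sl2_ext <;> simp only [mul00, mul01, mul10, mul11, one00, one01, one10, one11] <;> grind

theorem tr2_of_cube (h2 : (2 : F) = 0) {k : SL2} (hk : k * k * k = 1) (hk1 : k ≠ 1) : tr2 k = 1 := by
  have h1 := tr2_mul_add k k
  have e : k * k = k⁻¹ := eq_inv_of_mul_eq_one_left hk
  rw [e, tr2_inv, mul_inv_cancel, tr2_one, h2, add_zero] at h1
  have h3 : tr2 k * (tr2 k - 1) = 0 := by linear_combination -h1
  rcases mul_eq_zero.1 h3 with h | h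
  · exfalso
    apply hk1
    have := sq_eq_one_of_tr2_zero h2 h
    rw [this, one_mul] at hk
    exact hk
  · exact sub_eq_zero.1 h

theorem card_three (h2 : (2 : F) = 0) (K : Subgroup SL2) (hK : K ≠ ⊥)
    (htr : ∀ k ∈ K, k ≠ 1 → tr2 k = 1) : Nat.card K = 3 := by
  obtain ⟨k, hkK, hk1⟩ : ∃ k ∈ K, k ≠ 1 := by
    by_contra hcon
    push Not at hcon
    exact hK ((Subgroup.eq_bot_iff_forall K).2 hcon)
  have hk3 := cube_of_tr2_one h2 (htr k hkK hk1)
  have hord : orderOf k = 3 := by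
    apply orderOf_eq_prime _ hk1
    rw [pow_succ, pow_two]; exact hk3
  have hEq : K = Subgroup.zpowers k := by
    apply le_antisymm
    · intro k' hk'
      by_cases h1 : k' = 1
      · rw [h1]; exact Subgroup.one_mem _
      by_cases h3 : k * k' = 1
      · have : k' = k⁻¹ := eq_inv_of_mul_eq_one_right h3
        rw [this]
        exact Subgroup.inv_mem _ (Subgroup.mem_zpowers k)
      by_cases h4 : k * k'⁻¹ = 1
      · have : k' = k := by
          have := eq_inv_of_mul_eq_one_left h4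
          rw [inv_inv] at this
          exact this.symm
        rw [this]
        exact Subgroup.mem_zpowers k
      exfalso
      have := tr2_mul_add k k'
      rw [htr _ (K.mul_mem hkK hk') h3, htr _ (K.mul_mem hkK (K.inv_mem hk')) h4, htr k hkK hk1,
        htr k' hk' h1] at this
      have h5 : (1 : F) = 0 := by linear_combination h2 - this
      exact one_ne_zero h5
    · rw [Subgroup.zpowers_le]; exact hkK
  rw [hEq, Nat.card_zpowers, hord]

theorem eq_of_traces_one (h2 : (2 : F) = 0) (hΩ : ∀ x : F, x ^ 2 + x + 1 ≠ 0) {B C : SL2}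
    (hB : tr2 B = 1) (hC : tr2 C = 1) (hBC : tr2 (B * C) = 1) : B = C := by
  have dB := det_eq B
  have dC := det_eq C
  simp only [tr2, mul00, mul11] at hB hC hBC
  have hd : (B 0 0 + C 0 0) ^ 2 + (B 0 1 + C 0 1) * (B 1 0 + C 1 0) = 0 := by grind
  have hl : B 1 0 * (B 0 1 + C 0 1) + B 0 1 * (B 1 0 + C 1 0) + (B 0 0 + C 0 0) = 0 := by grind
  have h01 : B 0 1 + C 0 1 = 0 := by
    by_contra h
    apply hΩ (B 0 0 + B 0 1 * (B 0 0 + C 0 0) / (B 0 1 + C 0 1))
    field_simp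
    grind
  have h10 : B 1 0 + C 1 0 = 0 := by
    by_contra h
    apply hΩ (B 1 1 + B 1 0 * (B 0 0 + C 0 0) / (B 1 0 + C 1 0))
    field_simp
    grind
  have h00 : B 0 0 + C 0 0 = 0 := by
    rw [h01, zero_mul, add_zero] at hd
    exact pow_eq_zero_iff two_ne_zero |>.1 hd
  apply sl2_ext <;> grind

theorem isBin'_three (h2 : (2 : F) = 0) (hΩ : ∀ x : F, x ^ 2 + x + 1 ≠ 0) (K : Subgroup SL2)
    (hK : Nat.card K = 3) : IsBin' K := by
  have : Fact (Nat.Prime 3) := ⟨Nat.prime_three⟩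
  have hgen : ∀ h ∈ K, h ≠ 1 → ∀ h' ∈ K, ∃ n : ℤ, h ^ n = h' := by
    intro h hh h1 h' hh'
    have := mem_zpowers_of_prime_card (G := K) hK (g := ⟨h, hh⟩) (g' := ⟨h', hh'⟩)
      (fun e => h1 (congrArg Subtype.val e))
    obtain ⟨n, hn⟩ := Subgroup.mem_zpowers_iff.1 this
    exact ⟨n, by simpa using congrArg Subtype.val hn⟩
  have hcube : ∀ k ∈ K, k * k * k = 1 := by
    intro k hk
    have := pow_card_eq_one' (G := K) (x := ⟨k, hk⟩)
    rw [hK] at this
    have := congrArg Subtype.val this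
    simpa [pow_succ] using this
  have htr : ∀ k ∈ K, k ≠ 1 → tr2 k = 1 := fun k hk h1 => tr2_of_cube h2 (hcube k hk) h1
  have hnorm : ∀ x : SL2, ∀ h ∈ K, h ≠ 1 → x * h * x⁻¹ ∈ K → ∀ h' ∈ K, x * h' * x⁻¹ ∈ K := by
    intro x h hh h1 hx h' hh'
    obtain ⟨n, rfl⟩ := hgen h hh h1 h' hh'
    rw [← conj_zpow]
    exact K.zpow_mem hx n
  apply isBin'_of_TI_T
  · intro x
    by_cases hex : ∃ h ∈ K, h ≠ 1 ∧ x * h * x⁻¹ ∈ K
    · obtain ⟨h, hh, h1, hx⟩ := hex
      exact Or.inl (hnorm x h hh h1 hx)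
    · right
      intro h hh hx
      by_contra h1
      exact hex ⟨h, hh, h1, hx⟩
  · intro x y z hz a ha b hb hz1 ha1 hb1 hzab
    have e := eq_of_traces_one h2 hΩ (B := x * b * x⁻¹) (C := y * a * y⁻¹)
      (by rw [tr2_conj]; exact htr b hb hb1) (by rw [tr2_conj]; exact htr a ha ha1)
      (by rw [← hzab]; exact htr z hz hz1)
    rw [← e] at hzab
    have hb3 : (x * b * x⁻¹) * (x * b * x⁻¹) * (x * b * x⁻¹) = 1 := by
      have : (x * b * x⁻¹) * (x * b * x⁻¹) * (x * b * x⁻¹) = x * (b * b * b) * x⁻¹ := by group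
      rw [this, hcube b hb]; group
    have hxb : x * b * x⁻¹ ∈ K := by
      have : x * b * x⁻¹ = z⁻¹ := by
        rw [hzab]
        exact eq_inv_of_mul_eq_one_right hb3
      rw [this]
      exact K.inv_mem hz
    have hxb1 : x * b * x⁻¹ ≠ 1 := by
      intro h
      apply hb1
      have : b = x⁻¹ * (x * b * x⁻¹) * x := by group
      rw [this, h]; group
    apply hnorm x⁻¹ (x * b * x⁻¹) hxb hxb1
    have : x⁻¹ * (x * b * x⁻¹) * x⁻¹⁻¹ = b := by group
    rw [this]
    exact hb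

variable [Fintype F]

theorem not_bin_of_abelian (K : Subgroup SL2) (hab : ∀ a ∈ K, ∀ b ∈ K, a * b = b * a) {k : SL2}
    (hk : k ∈ K) (h4 : tr2 k ^ 2 ≠ 4) (h1 : tr2 k ≠ -1) : ¬ IsBin' K := by
  obtain ⟨B, C, hB, hC, hBC, hnc⟩ := exists_triple (tr2 k) h4 h1
  obtain ⟨x₁, hx₁⟩ := isConj_of_tr2 hBC.symm h4
  obtain ⟨x₂, hx₂⟩ := isConj_of_tr2 hB.symm h4
  obtain ⟨x₃, hx₃⟩ := isConj_of_tr2 hC.symm h4
  have e : ∀ x Y : SL2, Y = x * k * x⁻¹ → x⁻¹ * Y * x ∈ K := by
    intro x Y h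
    have : x⁻¹ * Y * x = k := by rw [h]; group
    rw [this]; exact hk
  exact not_isBin'_of_abelian_triple K hab (B * C) B C x₁ x₂ x₃ (e _ _ hx₁) (e _ _ hx₂) (e _ _ hx₃)
    rfl hnc

theorem not_bin_three_split (h2 : (2 : F) = 0) {ω : F} (hω : ω ^ 2 + ω + 1 = 0) (K : Subgroup SL2)
    (hab : ∀ a ∈ K, ∀ b ∈ K, a * b = b * a) {k : SL2} (hk : k ∈ K) (htr : tr2 k = 1) :
    ¬ IsBin' K := by
  have h4 : tr2 k ^ 2 ≠ 4 := by
    rw [htr]
    intro h
    have : (1 : F) = 0 := by linear_combination h + 2 * h2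
    exact one_ne_zero this
  let B : SL2 := mkS ω 0 0 (ω ^ 2) (by grind)
  let C : SL2 := mkS ω 1 0 (ω ^ 2) (by grind)
  have hB : tr2 B = 1 := by simp only [tr2, B, mkS00, mkS11]; grind
  have hC : tr2 C = 1 := by simp only [tr2, C, mkS00, mkS11]; grind
  have hBC : tr2 (B * C) = 1 := by
    simp only [tr2, mul00, mul11, B, C, mkS00, mkS01, mkS10, mkS11]; grind
  have hnc : B * C ≠ C * B := by
    intro h
    have h01 : (B * C) 0 1 = (C * B) 0 1 := by rw [h]
    simp only [mul01, B, C, mkS00, mkS01, mkS10, mkS11] at h01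
    have : (1 : F) = 0 := by grind
    exact one_ne_zero this
  obtain ⟨x₁, hx₁⟩ := isConj_of_tr2 (g := k) (h := B * C) (by rw [htr, hBC]) h4
  obtain ⟨x₂, hx₂⟩ := isConj_of_tr2 (g := k) (h := B) (by rw [htr, hB]) h4
  obtain ⟨x₃, hx₃⟩ := isConj_of_tr2 (g := k) (h := C) (by rw [htr, hC]) h4
  have e : ∀ x Y : SL2, Y = x * k * x⁻¹ → x⁻¹ * Y * x ∈ K := by
    intro x Y h
    have : x⁻¹ * Y * x = k := by rw [h]; group
    rw [this]; exact hk
  exact not_isBin'_of_abelian_triple K hab (B * C) B C x₁ x₂ x₃ (e _ _ hx₁) (e _ _ hx₂) (e _ _ hx₃)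
    rfl hnc

theorem exists_omega_of_even (a : ℕ) (ha : Even a) (hF : Fintype.card F = 2 ^ a) :
    ∃ ω : F, ω ^ 2 + ω + 1 = 0 := by
  classical
  have : Fact (Nat.Prime 3) := ⟨Nat.prime_three⟩
  have h3 : 3 ∣ Fintype.card Fˣ := by
    rw [Fintype.card_units, hF]
    obtain ⟨b, rfl⟩ := ha
    rw [← two_mul, pow_mul]
    have : (2 ^ 2 : ℕ) = 4 := by norm_num
    rw [this]
    have := Nat.sub_dvd_pow_sub_pow 4 1 b
    simpa using this
  obtain ⟨u, hu⟩ := exists_prime_orderOf_dvd_card 3 h3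
  refine ⟨(u : F), ?_⟩
  have h1 : (u : F) ^ 3 = 1 := by
    have := pow_orderOf_eq_one u
    rw [hu] at this
    have h := congrArg Units.val this
    simpa using h
  have h4 : (u : F) ≠ 1 := by
    intro h
    have : u = 1 := Units.ext h
    rw [this, orderOf_one] at hu
    norm_num at hu
  have h5 : ((u : F) - 1) * ((u : F) ^ 2 + u + 1) = 0 := by linear_combination h1
  rcases mul_eq_zero.1 h5 with h | h
  · exact absurd (sub_eq_zero.1 h) h4
  · exact h

theorem no_omega_of_odd (h2 : (2 : F) = 0) (a : ℕ) (ha : Odd a) (hF : Fintype.card F = 2 ^ a) (x : F) :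
    x ^ 2 + x + 1 ≠ 0 := by
  classical
  intro hx
  have hx0 : x ≠ 0 := by
    rintro rfl
    simp at hx
  have hx3 : x ^ 3 = 1 := by linear_combination (x - 1) * hx
  have hx1 : x ≠ 1 := by
    rintro rfl
    have : (1 : F) = 0 := by linear_combination hx - h2
    exact one_ne_zero this
  have hord : orderOf (Units.mk0 x hx0) = 3 := by
    apply orderOf_eq_prime
    · apply Units.ext
      simpa using hx3
    · intro h
      apply hx1
      simpa using congrArg Units.val h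
  have hdvd : 3 ∣ Fintype.card Fˣ := by
    rw [← hord]; exact orderOf_dvd_card
  rw [Fintype.card_units, hF] at hdvd
  obtain ⟨b, rfl⟩ := ha
  have h4 : (2 : ℕ) ^ (2 * b + 1) = 2 * 4 ^ b := by
    rw [pow_succ, pow_mul]; norm_num [mul_comm]
  have h5 : 4 ^ b % 3 = 1 := by
    rw [Nat.pow_mod]; simp
  have h6 : 1 ≤ 4 ^ b := Nat.one_le_pow _ _ (by norm_num)
  rw [h4] at hdvd
  omega

/-- stabilisers of odd order in characteristic two -/
theorem three_of_bin_odd (h2 : (2 : F) = 0) (a : ℕ) (hF : Fintype.card F = 2 ^ a) (K : Subgroup SL2)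
    (hab : ∀ a ∈ K, ∀ b ∈ K, a * b = b * a) (hodd : ∀ k ∈ K, k * k = 1 → k = 1) (hK : K ≠ ⊥)
    (hbin : IsBin' K) : Odd a ∧ Nat.card K = 3 := by
  have htr : ∀ k ∈ K, k ≠ 1 → tr2 k = 1 := by
    intro k hk hk1
    by_contra h
    have h0 : tr2 k ≠ 0 := fun h0 => hk1 (hodd k hk (sq_eq_one_of_tr2_zero h2 h0))
    apply not_bin_of_abelian K hab hk _ _ hbin
    · intro h4
      apply h0
      have : tr2 k ^ 2 = 0 := by linear_combination h4 + 2 * h2
      exact pow_eq_zero_iff two_ne_zero |>.1 this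
    · intro h1
      apply h
      linear_combination h1 - h2
  refine ⟨?_, card_three h2 K hK htr⟩
  by_contra ha
  rw [Nat.not_odd_iff_even] at ha
  obtain ⟨ω, hω⟩ := exists_omega_of_even a ha hF
  obtain ⟨k, hkK, hk1⟩ : ∃ k ∈ K, k ≠ 1 := by
    by_contra hcon
    push Not at hcon
    exact hK ((Subgroup.eq_bot_iff_forall K).2 hcon)
  exact not_bin_three_split h2 hω K hab hkK (htr k hkK hk1) hbin

end Cfsg.Agent.Lib.Helper41.Bin
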