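import Cfsg.Agent.Lib.Helper41.Bin.SL2

/-!
# Binary coset actions: conjugacy by trace and non-commuting triples in `SL₂(F)`
-/

set_option autoImplicit false
set_option linter.unusedVariables false
set_option linter.unusedSimpArgs false

namespace Cfsg.Agent.Lib.Helper41.Bin

open Cfsg.Agent.Lib.Helper37.Bin Matrix Polynomial

variable {F : Type*} [Field F]

local notation "SL2" => Matrix.SpecialLinearGroup (Fin 2) F

/-- the companion matrix of `X² - τ X + 1` -/
def comp (τ : F) : SL2 := mkS 0 (-1) 1 τ (by ring)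

theorem tr2_comp (τ : F) : tr2 (comp τ) = τ := by
  simp only [tr2, comp, mkS00, mkS11]; ring

variable [Fintype F]

theorem exists_conj_comp (g : SL2) (hτ : tr2 g ^ 2 ≠ 4) : ∃ P : SL2, g = P * comp (tr2 g) * P⁻¹ := by
  have hdet := det_eq g
  obtain ⟨x, y, hxy⟩ := exists_quad (g 1 0) (g 1 1 - g 0 0) (-g 0 1) (by
    intro h
    apply hτ
    simp only [tr2]
    linear_combination h + 4 * hdet)
  let P : SL2 := mkS x (g 0 0 * x + g 0 1 * y) y (g 1 0 * x + g 1 1 * y) (by linear_combination hxy)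
  refine ⟨P, ?_⟩
  have h : g * P = P * comp (tr2 g) := by
    apply sl2_ext <;>
      simp only [mul00, mul01, mul10, mul11, P, comp, mkS00, mkS01, mkS10, mkS11, tr2]
    · ring
    · linear_combination (-x) * hdet
    · ring
    · linear_combination (-y) * hdet
  rw [← h]
  group

theorem isConj_of_tr2 {g h : SL2} (hgh : tr2 g = tr2 h) (hτ : tr2 g ^ 2 ≠ 4) :
    ∃ x : SL2, h = x * g * x⁻¹ := by
  obtain ⟨P, hP⟩ := exists_conj_comp g hτ
  obtain ⟨Q, hQ⟩ := exists_conj_comp h (by rw [← hgh]; exact hτ)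
  refine ⟨Q * P⁻¹, ?_⟩
  have : comp (tr2 g) = P⁻¹ * g * P := by
    conv_rhs => rw [hP]
    group
  rw [← hgh, this] at hQ
  rw [hQ]
  group

theorem exists_conic (τ : F) (h4 : τ ^ 2 ≠ 4) :
    ∃ x z : F, x ^ 2 - τ * x + z ^ 2 + τ * x * z - τ * z + 1 = 0 := by
  by_cases h2 : (2 : F) = 0
  · have hτ : τ ≠ 0 := by
      rintro rfl
      apply h4
      have : (4 : F) = 2 * 2 := by norm_num
      rw [this, h2]; ring
    obtain ⟨r, hr⟩ := isSquare_of_two_eq_zero h2 τ⁻¹
    refine ⟨r, r, ?_⟩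
    have : τ * (r * r) = 1 := by rw [← hr]; exact mul_inv_cancel₀ hτ
    linear_combination this + (r ^ 2 - τ * r + 1) * h2
  · have h4' : (4 : F) ≠ 0 := by
      have : (4 : F) = 2 * 2 := by norm_num
      rw [this]; exact mul_ne_zero h2 h2
    have hδ : (1 - τ ^ 2 / 4 : F) ≠ 0 := by
      intro h
      apply h4
      field_simp at h
      linear_combination -h
    obtain ⟨a, b, hab⟩ := FiniteField.exists_root_sum_quadratic
      (f := C 1 * X ^ 2 + C (-τ) * X + C 1)
      (g := C (1 - τ ^ 2 / 4) * X ^ 2 + C (τ ^ 2 / 2 - τ) * X + C 0)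
      (degree_quadratic one_ne_zero) (degree_quadratic hδ) (card_mod_two_of_two_ne_zero h2)
    simp only [eval_add, eval_mul, eval_C, eval_pow, eval_X] at hab
    refine ⟨a - τ * b / 2, b, ?_⟩
    field_simp at hab ⊢
    grind

theorem exists_triple (τ : F) (h4 : τ ^ 2 ≠ 4) (h1 : τ ≠ -1) :
    ∃ B C : SL2, tr2 B = τ ∧ tr2 C = τ ∧ tr2 (B * C) = τ ∧ B * C ≠ C * B := by
  obtain ⟨x, z, hxz⟩ := exists_conic τ h4
  let B : SL2 := mkS x (z + τ * x - τ) z (τ - x) (by linear_combination -hxz)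
  have hB : tr2 B = τ := by simp only [tr2, B, mkS00, mkS11]; ring
  have hC : tr2 (B⁻¹ * comp τ) = τ := by
    simp only [tr2, mul00, mul11, inv00, inv01, inv10, inv11, B, comp, mkS00, mkS01, mkS10, mkS11]
    ring
  have hBC : B * (B⁻¹ * comp τ) = comp τ := by group
  refine ⟨B, B⁻¹ * comp τ, hB, hC, by rw [hBC, tr2_comp], ?_⟩
  intro hc
  rcases fricke hc hB hC (by rw [hBC, tr2_comp]) with h | h
  · apply h4; rw [h]; norm_num
  · exact h1 h

omit [Fintype F] in
/-- an abelian subgroup containing conjugates of three elements `A = B C` with `B C ≠ C B`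
does not give a binary action -/
theorem not_isBin'_of_abelian_triple (K : Subgroup SL2) (hab : ∀ a ∈ K, ∀ b ∈ K, a * b = b * a)
    (A B C x₁ x₂ x₃ : SL2) (hA : x₁⁻¹ * A * x₁ ∈ K) (hB : x₂⁻¹ * B * x₂ ∈ K)
    (hC : x₃⁻¹ * C * x₃ ∈ K) (hABC : A = B * C) (hnc : B * C ≠ C * B) : ¬ IsBin' K := by
  have hcomm : ∀ (x s Y : SL2), x⁻¹ * s * x ∈ K → x⁻¹ * Y * x ∈ K → Y * s = s * Y := by
    intro x s Y hs hY
    have := hab _ hY _ hs
    have e1 : Y * s = x * ((x⁻¹ * Y * x) * (x⁻¹ * s * x)) * x⁻¹ := by group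
    rw [e1, this]
    group
  have hAB : A * B ≠ B * A := by
    intro h
    apply hnc
    rw [hABC] at h
    have : B * (C * B) = B * (B * C) := by rw [← mul_assoc, h]
    exact (mul_left_cancel this).symm
  have hAC : A * C ≠ C * A := by
    intro h
    apply hnc
    rw [hABC] at h
    have : (B * C) * C = (C * B) * C := by rw [h]; group
    exact mul_right_cancel this
  apply not_isBin'_of_triple K x₁ x₂ x₃ A B C hA hB hC hABC
  intro s t hs1 hs2 ht1 ht2 hst
  have hs : IsScal s := by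
    by_contra hs
    exact hAB (comm_of_comm s A B hs (hcomm x₁ s A hs1 hA) (hcomm x₂ s B hs2 hB))
  have ht : IsScal t := by
    by_contra ht
    exact hAC (comm_of_comm t A C ht (hcomm x₁ t A ht1 hA) (hcomm x₃ t C ht2 hC))
  apply hAB
  rw [hst, mul_assoc, ht.comm B, ← mul_assoc, hs.comm B, mul_assoc]

end Cfsg.Agent.Lib.Helper41.Bin
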