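import Cfsg.Agent.Lib.Helper41.Bin.Triple

/-!
# Binary coset actions of `SL₂(F)`: unipotent elements
-/

set_option autoImplicit false
set_option linter.unusedVariables false
set_option linter.unusedSimpArgs false

namespace Cfsg.Agent.Lib.Helper41.Bin

open Cfsg.Agent.Lib.Helper37.Bin Matrix

variable {F : Type*} [Field F]

local notation "SL2" => Matrix.SpecialLinearGroup (Fin 2) F

/-- upper unitriangular matrices -/
def uu (b : F) : SL2 := mkS 1 b 0 1 (by ring)

/-- lower unitriangular matrices -/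
def ll (c : F) : SL2 := mkS 1 0 c 1 (by ring)

/-- minus the identity -/
def negOne : SL2 := mkS (-1) 0 0 (-1) (by ring)

theorem uu_add (a b : F) : uu a * uu b = uu (a + b) := by
  apply sl2_ext <;> simp only [mul00, mul01, mul10, mul11, uu, mkS00, mkS01, mkS10, mkS11] <;> ring

theorem uu_zero : uu (0 : F) = 1 := by
  apply sl2_ext <;> simp only [one00, one01, one10, one11, uu, mkS00, mkS01, mkS10, mkS11]

theorem uu_inv (a : F) : (uu a)⁻¹ = uu (-a) := by
  apply inv_eq_of_mul_eq_one_left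
  rw [uu_add, neg_add_cancel, uu_zero]

theorem uu_injective : Function.Injective (uu : F → SL2) := by
  intro a b h
  have := congrArg (fun M : SL2 => M 0 1) h
  simpa only [uu, mkS01] using this

/-- the group of upper unitriangular matrices -/
def Usub (F : Type*) [Field F] : Subgroup (Matrix.SpecialLinearGroup (Fin 2) F) where
  carrier := {g | g 1 0 = 0 ∧ g 0 0 = 1}
  one_mem' := ⟨one10, one00⟩
  mul_mem' := by
    rintro a b ⟨h1, h2⟩ ⟨h3, h4⟩
    refine ⟨?_, ?_⟩
    · rw [mul10, h1, h3]; ring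
    · rw [mul00, h2, h3, h4]; ring
  inv_mem' := by
    rintro a ⟨h1, h2⟩
    have := det_eq a
    refine ⟨?_, ?_⟩
    · rw [inv10, h1]; ring
    · rw [inv00]
      rw [h1, h2] at this
      linear_combination this

theorem mem_Usub {g : SL2} : g ∈ Usub F ↔ g 1 0 = 0 ∧ g 0 0 = 1 := Iff.rfl

theorem mem_Usub_iff {g : SL2} : g ∈ Usub F ↔ ∃ b, g = uu b := by
  constructor
  · rintro ⟨h1, h2⟩
    have := det_eq g
    refine ⟨g 0 1, ?_⟩
    apply sl2_ext <;> simp only [uu, mkS00, mkS01, mkS10, mkS11]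
    · exact h2
    · exact h1
    · rw [h1, h2] at this
      linear_combination this
  · rintro ⟨b, rfl⟩
    exact ⟨rfl, rfl⟩

theorem card_Usub : Nat.card (Usub F) = Nat.card F := by
  apply Nat.card_congr
  refine ⟨fun g => g.1 0 1, fun b => ⟨uu b, mem_Usub_iff.2 ⟨b, rfl⟩⟩, ?_, ?_⟩
  · rintro ⟨g, hg⟩
    obtain ⟨b, rfl⟩ := mem_Usub_iff.1 hg
    rfl
  · intro b
    rfl

/-- a subgroup containing all `uu b` and an element outside the Borel subgroup is everything -/
theorem eq_top_of_uu (K : Subgroup SL2) (hU : ∀ b, uu b ∈ K) {g : SL2} (hg : g ∈ K)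
    (h10 : g 1 0 ≠ 0) : K = ⊤ := by
  have hdet := det_eq g
  -- the lower unitriangular matrices
  have hL : ∀ c, ll c ∈ K := by
    intro c
    set n := uu (-(g 0 0 / g 1 0)) * g with hn
    have hnK : n ∈ K := K.mul_mem (hU _) hg
    have : ll c = n * uu (-(c / (g 1 0) ^ 2)) * n⁻¹ := by
      apply sl2_ext <;>
        simp only [hn, mul00, mul01, mul10, mul11, inv00, inv01, inv10, inv11, uu, ll, mkS00, mkS01,
          mkS10, mkS11] <;> field_simp <;> grind
    rw [this]
    exact K.mul_mem (K.mul_mem hnK (hU _)) (K.inv_mem hnK)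
  have key : ∀ x : SL2, x 1 0 ≠ 0 → x ∈ K := by
    intro x hx
    have hd := det_eq x
    have : x = uu ((x 0 0 - 1) / x 1 0) * ll (x 1 0) * uu ((x 1 1 - 1) / x 1 0) := by
      apply sl2_ext <;>
        simp only [mul00, mul01, mul10, mul11, uu, ll, mkS00, mkS01, mkS10, mkS11] <;> field_simp <;>
        grind
    rw [this]
    exact K.mul_mem (K.mul_mem (hU _) (hL _)) (hU _)
  rw [eq_top_iff]
  intro x _
  by_cases hx : x 1 0 = 0
  · have hd := det_eq x
    have h00 : x 0 0 ≠ 0 := by
      intro h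
      rw [h, hx] at hd
      simp at hd
    have h1 : ll 1 * x ∈ K := by
      apply key
      rw [mul10]
      simp only [ll, mkS10, mkS11, hx]
      simpa using h00
    have : x = (ll 1)⁻¹ * (ll 1 * x) := by group
    rw [this]
    exact K.mul_mem (K.inv_mem (hL 1)) h1
  · exact key x hx

/-- powers of a matrix of trace two -/
theorem pow_of_tr2_two {k : SL2} (hk : tr2 k = 2) (n : ℕ) :
    (k ^ n) 0 0 = 1 + n * (k 0 0 - 1) ∧ (k ^ n) 0 1 = n * k 0 1 ∧ (k ^ n) 1 0 = n * k 1 0 ∧
      (k ^ n) 1 1 = 1 + n * (k 1 1 - 1) := by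
  have hd := det_eq k
  simp only [tr2] at hk
  induction n with
  | zero => simp
  | succ n ih =>
    obtain ⟨h1, h2, h3, h4⟩ := ih
    rw [pow_succ]
    simp only [mul00, mul01, mul10, mul11, h1, h2, h3, h4]
    push_cast
    refine ⟨?_, ?_, ?_, ?_⟩ <;> grind

theorem pow_char_of_tr2_two (p : ℕ) [CharP F p] {k : SL2} (hk : tr2 k = 2) : k ^ p = 1 := by
  obtain ⟨h1, h2, h3, h4⟩ := pow_of_tr2_two hk p
  apply sl2_ext
  · rw [h1, one00, CharP.cast_eq_zero]; ring
  · rw [h2, one01, CharP.cast_eq_zero]; ring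
  · rw [h3, one10, CharP.cast_eq_zero]; ring
  · rw [h4, one11, CharP.cast_eq_zero]; ring

/-- the unipotent triple in odd characteristic -/
theorem not_bin_of_unip (h2 : (2 : F) ≠ 0) (K : Subgroup SL2) (hB : ∀ k ∈ K, k 1 0 = 0)
    (hneg : negOne ∈ K) {x : F} (hx : x ≠ 0) (hu : uu x ∈ K) (h4 : ∀ k ∈ K, k 0 0 ^ 2 ≠ -1) :
    ¬ IsBin' K := by
  set x₃ : SL2 := mkS 0 (-(x / 2)) (2 / x) 0 (by field_simp; ring) with hx₃
  apply not_isBin'_of_triple K (ll (2 / x)) 1 x₃ (uu x * ll (-(4 / x))) (uu x) (ll (-(4 / x)))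
  · have : (ll (2 / x))⁻¹ * (uu x * ll (-(4 / x))) * ll (2 / x) = negOne * (uu x)⁻¹ := by
      apply sl2_ext <;>
        simp only [mul00, mul01, mul10, mul11, inv00, inv01, inv10, inv11, uu, ll, negOne, mkS00,
          mkS01, mkS10, mkS11] <;> field_simp <;> ring
    rw [this]
    exact K.mul_mem hneg (K.inv_mem hu)
  · simpa using hu
  · have : x₃⁻¹ * ll (-(4 / x)) * x₃ = uu x := by
      apply sl2_ext <;>
        simp only [hx₃, mul00, mul01, mul10, mul11, inv00, inv01, inv10, inv11, uu, ll, mkS00,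
          mkS01, mkS10, mkS11] <;> field_simp <;> ring
    rw [this]
    exact hu
  · rfl
  · intro s t hs1 hs2 ht1 ht2 hst
    have hsK : s ∈ K := by simpa using hs2
    have e1 := hB _ hsK
    have e2 := hB _ hs1
    have e3 := hB _ ht2
    have e4 := hB _ ht1
    have a01 := congrArg (fun M : SL2 => M 0 1) hst
    have a11 := congrArg (fun M : SL2 => M 1 1) hst
    have ds := det_eq s
    simp only [hx₃, mul00, mul01, mul10, mul11, inv00, inv01, inv10, inv11, uu, ll, mkS00,
          mkS01, mkS10, mkS11] at e2 e3 e4 a01 a11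
    apply h4 s hsK
    have t01 : t 0 1 = 0 := by
      field_simp at e3
      grind
    rw [e1] at e2 a11 ds
    rw [t01] at a01 a11
    have h5 : s 0 1 = x * s 1 1 := by
      have : s 0 1 * (s 1 1 * t 1 1) = x * s 1 1 := by linear_combination (-(s 1 1)) * a01
      have h6 : s 1 1 * t 1 1 = 1 := by linear_combination -a11
      rw [h6, mul_one] at this
      exact this
    rw [h5] at e2
    field_simp at e2
    grind

end Cfsg.Agent.Lib.Helper41.Bin
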